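import Mathlib.Algebra.Category.Ring.Constructions
import Mathlib.RingTheory.Flat.Basic
import Mathlib.CategoryTheory.ConcreteCategory.EpiMono
import Mathlib.RingTheory.RingHom.FaithfullyFlat
/-!
Gluing an algebra over a flat extension with an algebra over the base away from an ideal.
-/

set_option autoImplicit false
set_option backward.isDefEq.respectTransparency false
set_option linter.style.haveILetI false

universe u

open TensorProduct CategoryTheory CategoryTheory.Limits

namespace Groth.Agent.FlatGlueFEt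

section
variable {A B Y V : Type u} [CommRing A] [CommRing B] [CommRing Y] [CommRing V]
  [Algebra A B] [Algebra A Y] [Algebra B Y] [IsScalarTower A B Y] [Algebra A V]
  (ρ : Y →ₐ[B] B ⊗[A] V)

/-- The glued algebra. -/
def glued : Subalgebra A (Y × V) :=
  AlgHom.equalizer ((ρ.restrictScalars A).comp (AlgHom.fst A Y V))
    ((Algebra.TensorProduct.includeRight : V →ₐ[A] B ⊗[A] V).comp (AlgHom.snd A Y V))

theorem mem_glued {y : Y} {v : V} : (y, v) ∈ glued ρ ↔ ρ y = (1 : B) ⊗ₜ v := Iff.rfl

/-- The first projection. -/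
def gluedFst : glued ρ →ₐ[A] Y := (AlgHom.fst A Y V).comp (glued ρ).val

/-- The second projection. -/
def gluedSnd : glued ρ →ₐ[A] V := (AlgHom.snd A Y V).comp (glued ρ).val

theorem glued_comp (c : glued ρ) : ρ (gluedFst ρ c) = (1 : B) ⊗ₜ gluedSnd ρ c := c.2

/-- Extension to the base change. -/
noncomputable def gluedMap : B ⊗[A] glued ρ →ₐ[B] Y :=
  Algebra.TensorProduct.lift (Algebra.ofId B Y) (gluedFst ρ) fun _ _ => mul_comm _ _

theorem gluedMap_tmul (b : B) (c : glued ρ) : gluedMap ρ (b ⊗ₜ c) = algebraMap B Y b * (c : Y × V).1 := by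
  simp [gluedMap, gluedFst]

variable (I : Ideal A)
  (happ : ∀ (n : ℕ) (b : B), ∃ a : A, b - algebraMap A B a ∈ (I ^ n).map (algebraMap A B))
  (hcoker : ∀ w : B ⊗[A] V, ∃ n : ℕ, ∀ r ∈ I ^ n, ∃ y, ρ y = algebraMap A B r • w)
  (hker : ∀ y, ρ y = 0 → ∃ n : ℕ, ∀ r ∈ I ^ n, r • y = 0)

include happ hcoker hker in
theorem gluedMap_bijective [Module.Flat A B] : Function.Bijective (gluedMap ρ) := by
  classical
  have hcomp : ∀ z, ρ (gluedMap ρ z) = (gluedSnd ρ).toLinearMap.lTensor B z := by
    intro z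
    induction z using TensorProduct.induction_on with
    | zero => simp
    | add a b ha hb => simp only [map_add, ha, hb]
    | tmul b c =>
      rw [gluedMap_tmul, map_mul, AlgHom.commutes]
      show algebraMap B (B ⊗[A] V) b * ρ (gluedFst ρ c) = b ⊗ₜ gluedSnd ρ c
      rw [glued_comp, Algebra.TensorProduct.algebraMap_apply, Algebra.TensorProduct.tmul_mul_tmul, mul_one,
        one_mul]
      rfl
  constructor
  · rw [injective_iff_map_eq_zero]
    intro z hz
    have h0 : (gluedSnd ρ).toLinearMap.lTensor B z = 0 := by rw [← hcomp, hz, map_zero]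
    have hex0 := LinearMap.exact_subtype_ker_map (gluedSnd ρ).toLinearMap
    have hex := @Module.Flat.lTensor_exact A B _ _ _ _ (LinearMap.ker (gluedSnd ρ).toLinearMap) (glued ρ) V
      _ _ _ _ _ _ _ _ hex0
    obtain ⟨z', rfl⟩ := (hex z).mp h0
    -- elements of the kernel are killed by a power of the ideal
    suffices h : ∃ k : LinearMap.ker (gluedSnd ρ).toLinearMap, z' = (1 : B) ⊗ₜ k by
      obtain ⟨k, rfl⟩ := h
      rw [LinearMap.lTensor_tmul, gluedMap_tmul, map_one, one_mul] at hz
      have : (k : glued ρ) = 0 := Subtype.ext (Prod.ext hz k.2)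
      rw [LinearMap.lTensor_tmul, Submodule.subtype_apply, this, tmul_zero]
    clear h0 hz
    induction z' using TensorProduct.induction_on with
    | zero => exact ⟨0, by simp⟩
    | add a b ha hb =>
      obtain ⟨k, rfl⟩ := ha
      obtain ⟨k', rfl⟩ := hb
      exact ⟨k + k', by rw [tmul_add]⟩
    | tmul b k =>
      have hk : ρ ((k : glued ρ) : Y × V).1 = 0 := by
        have := glued_comp ρ (k : glued ρ)
        rw [show gluedSnd ρ (k : glued ρ) = 0 from k.2, tmul_zero] at this
        exact this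
      obtain ⟨n, hn⟩ := hker _ hk
      obtain ⟨a, ha⟩ := happ n b
      refine ⟨a • k, ?_⟩
      rw [tmul_smul, ← sub_eq_zero, TensorProduct.smul_tmul', ← sub_tmul, Algebra.smul_def, mul_one]
      generalize b - algebraMap A B a = d at ha
      induction ha using Submodule.span_induction with
      | mem d hd =>
        obtain ⟨r, hr, rfl⟩ := hd
        rw [Algebra.algebraMap_eq_smul_one, smul_tmul]
        have : r • k = 0 := Subtype.ext (Subtype.ext (Prod.ext (hn r hr) (by
          show r • ((k : glued ρ) : Y × V).2 = 0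
          rw [show ((k : glued ρ) : Y × V).2 = 0 from k.2, smul_zero])))
        rw [this, tmul_zero]
      | zero => simp
      | add x y _ _ hx hy => rw [add_tmul, hx, hy, add_zero]
      | smul x y _ hy =>
        rw [show (x • y) ⊗ₜ[A] k = x • (y ⊗ₜ[A] k) from (TensorProduct.smul_tmul' x y k).symm, hy, smul_zero]
  · intro y
    let S : Submodule B Y := LinearMap.range (gluedMap ρ).toLinearMap
    have hC : ∀ y' v, ρ y' = (1 : B) ⊗ₜ v → y' ∈ S := fun y' v h =>
      ⟨(1 : B) ⊗ₜ (⟨(y', v), h⟩ : glued ρ), by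
        rw [AlgHom.toLinearMap_apply, gluedMap_tmul, map_one, one_mul]⟩
    have key : ∀ w : B ⊗[A] V, ∃ (v : V) (y₁ : Y), y₁ ∈ S ∧ ρ y₁ = w - (1 : B) ⊗ₜ v := by
      intro w
      induction w using TensorProduct.induction_on with
      | zero => exact ⟨0, 0, zero_mem _, by simp⟩
      | add a b ha hb =>
        obtain ⟨v, y, hy, e⟩ := ha
        obtain ⟨v', y', hy', e'⟩ := hb
        exact ⟨v + v', y + y', add_mem hy hy', by rw [map_add, e, e', tmul_add]; abel⟩
      | tmul b v =>
        obtain ⟨n, hn⟩ := hcoker ((1 : B) ⊗ₜ v)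
        obtain ⟨a, ha⟩ := happ n b
        refine ⟨a • v, ?_⟩
        rw [tmul_smul, TensorProduct.smul_tmul', ← sub_tmul, Algebra.smul_def, mul_one]
        generalize b - algebraMap A B a = d at ha
        induction ha using Submodule.span_induction with
        | mem d hd =>
          obtain ⟨r, hr, rfl⟩ := hd
          obtain ⟨y', hy'⟩ := hn r hr
          rw [TensorProduct.smul_tmul', smul_eq_mul, mul_one] at hy'
          refine ⟨y', hC y' (r • v) ?_, hy'⟩
          rw [hy', Algebra.algebraMap_eq_smul_one, smul_tmul]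
        | zero => exact ⟨0, zero_mem _, by simp⟩
        | add x y _ _ hx hy =>
          obtain ⟨p, hp, ep⟩ := hx
          obtain ⟨q, hq, eq⟩ := hy
          exact ⟨p + q, add_mem hp hq, by rw [map_add, ep, eq, add_tmul]⟩
        | smul x y _ hy =>
          obtain ⟨q, hq, eq⟩ := hy
          exact ⟨x • q, S.smul_mem x hq, by rw [map_smul, eq, TensorProduct.smul_tmul']⟩
    obtain ⟨v, y₁, hy₁, e⟩ := key (ρ y)
    have h2 : y - y₁ ∈ S := hC _ v (by rw [map_sub, e, sub_sub_cancel])
    have := add_mem h2 hy₁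
    rwa [sub_add_cancel] at this

end

/-- The glued algebra, in terms of pushouts. -/
theorem exists_glue {A B Y V W : CommRingCat.{u}} (t : A ⟶ B) (ht : t.hom.Flat) (a : B ⟶ Y) (g : A ⟶ V)
    {c : B ⟶ W} {d : V ⟶ W} (hW : IsPushout t g c d) (ρ : Y ⟶ W) (hρ : a ≫ ρ = c) (I : Ideal A)
    (happ : ∀ (n : ℕ) (b : B), ∃ x : A, b - t.hom x ∈ (I ^ n).map t.hom)
    (hcoker : ∀ w : W, ∃ n : ℕ, ∀ r ∈ I ^ n, ∃ y, ρ.hom y = c.hom (t.hom r) * w)
    (hker : ∀ y, ρ.hom y = 0 → ∃ n : ℕ, ∀ r ∈ I ^ n, a.hom (t.hom r) * y = 0) :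
    ∃ (C : CommRingCat.{u}) (φ : A ⟶ C) (p : C ⟶ V) (q : C ⟶ Y),
      IsPushout t φ a q ∧ φ ≫ p = g ∧ q ≫ ρ = p ≫ d := by
  letI : Algebra A B := t.hom.toAlgebra
  letI : Algebra A V := g.hom.toAlgebra
  letI : Algebra B Y := a.hom.toAlgebra
  letI : Algebra A Y := (a.hom.comp t.hom).toAlgebra
  haveI : IsScalarTower A B Y := .of_algebraMap_eq fun _ => rfl
  haveI : Module.Flat A B := ht
  let P := CommRingCat.isPushout_tensorProduct A B V
  let e := hW.isoPushout ≪≫ P.isoPushout.symm
  have hec : c ≫ e.hom = CommRingCat.ofHom Algebra.TensorProduct.includeLeftRingHom := by simp [e, P]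
  have hed : d ≫ e.hom = CommRingCat.ofHom
      (Algebra.TensorProduct.includeRight : V →ₐ[A] B ⊗[A] V).toRingHom := by simp [e, P]
  let ρ' : Y →ₐ[B] B ⊗[A] V :=
    { e.hom.hom.comp ρ.hom with
      commutes' := fun b => by
        show e.hom.hom (ρ.hom (a.hom b)) = _
        rw [← CategoryTheory.comp_apply a ρ, hρ, ← CategoryTheory.comp_apply c e.hom, hec]
        rfl }
  have hρ' : ∀ y, ρ' y = e.hom.hom (ρ.hom y) := fun _ => rfl
  have einj : Function.Injective e.hom.hom := (ConcreteCategory.bijective_of_isIso e.hom).injective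
  have hc : ∀ w : B ⊗[A] V, ∃ n : ℕ, ∀ r ∈ I ^ n, ∃ y, ρ' y = algebraMap A B r • w := fun w => by
    obtain ⟨w, rfl⟩ := (ConcreteCategory.bijective_of_isIso e.hom).surjective w
    obtain ⟨n, hn⟩ := hcoker w
    refine ⟨n, fun r hr => ?_⟩
    obtain ⟨y, hy⟩ := hn r hr
    refine ⟨y, ?_⟩
    rw [hρ', hy, map_mul, ← CategoryTheory.comp_apply c e.hom, hec, Algebra.smul_def,
      Algebra.TensorProduct.algebraMap_apply]
    rfl
  have hk : ∀ y, ρ' y = 0 → ∃ n : ℕ, ∀ r ∈ I ^ n, r • y = 0 := fun y hy => by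
    obtain ⟨n, hn⟩ := hker y (einj (by rw [map_zero]; exact hy))
    exact ⟨n, fun r hr => by rw [Algebra.smul_def]; exact hn r hr⟩
  let m := RingEquiv.ofBijective (gluedMap ρ') (gluedMap_bijective ρ' I happ hc hk)
  refine ⟨CommRingCat.of (glued ρ'), CommRingCat.ofHom (algebraMap A (glued ρ')),
    CommRingCat.ofHom (gluedSnd ρ').toRingHom, CommRingCat.ofHom (gluedFst ρ').toRingHom, ?_, ?_, ?_⟩
  · refine (CommRingCat.isPushout_tensorProduct A B (glued ρ')).of_iso (Iso.refl _) (Iso.refl _) (Iso.refl _)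
      m.toCommRingCatIso (by ext; simp; rfl) (by ext; simp; rfl) ?_ ?_
    · ext b
      show gluedMap ρ' (b ⊗ₜ 1) = a.hom b
      rw [gluedMap_tmul]
      show a.hom b * 1 = a.hom b
      rw [mul_one]
    · ext c
      show gluedMap ρ' (1 ⊗ₜ c) = _
      rw [gluedMap_tmul, map_one, one_mul]
      rfl
  · ext x
    exact (gluedSnd ρ').commutes x
  · rw [← cancel_mono e.hom, Category.assoc, Category.assoc, hed]
    ext c
    exact c.2

end Groth.Agent.FlatGlueFEt
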